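import Mathlib

/-!
# Fixed points and centralisers in transitive actions

For a transitive action, the number of fixed points of `g` times the order of a point stabiliser is the
order of the centraliser of `g` times the number of conjugates of `g` in that stabiliser.
-/

set_option autoImplicit false

namespace Cfsg.Agent.Lib.LyLocal84

open MulAction

variable {G Ω : Type*} [Group G] [MulAction G Ω]

/-- The conjugates of `g` inside a subgroup. -/
def classIn (H : Subgroup G) (g : G) : Set G := {s | s ∈ H ∧ IsConj g s}

theorem card_fixedBy_mul_card_stabilizer [Finite G] [MulAction.IsPretransitive G Ω] (a : Ω) (g : G) :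
    Nat.card (fixedBy Ω g) * Nat.card (stabilizer G a) =
      Nat.card (Subgroup.centralizer ({g} : Set G)) * Nat.card (classIn (stabilizer G a) g) := by
  classical
  let : Fintype G := Fintype.ofFinite G
  have : Finite Ω := Finite.of_surjective (fun h : G => h • a) fun x => exists_smul_eq G a x
  let : Fintype Ω := Fintype.ofFinite Ω
  let T : Finset G := Finset.univ.filter fun h => g • h • a = h • a
  have h1 : T.card = Nat.card (fixedBy Ω g) * Nat.card (stabilizer G a) := by
    rw [Finset.card_eq_sum_card_fiberwise (f := fun h : G => h • a) (t := (fixedBy Ω g).toFinset)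
      (fun h hh => by simpa [T] using hh)]
    rw [Finset.sum_const_nat (m := Nat.card (stabilizer G a)), Nat.card_eq_card_toFinset]
    intro y hy
    obtain ⟨h0, rfl⟩ := exists_smul_eq G a y
    rw [Nat.card_eq_fintype_card, ← Finset.card_univ]
    refine Finset.card_bij (fun h _ => (⟨h0⁻¹ * h, ?_⟩ : stabilizer G a)) ?_ ?_ ?_
    · rename_i hh
      simp only [T, Finset.mem_filter, Finset.mem_univ, true_and] at hh
      rw [mem_stabilizer_iff, mul_smul, hh.2, inv_smul_smul]
    · intros; exact Finset.mem_univ _
    · intro x hx y hy he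
      simpa using congrArg (fun s : stabilizer G a => (s : G)) he
    · intro s _
      refine ⟨h0 * s, ?_, Subtype.ext (by simp)⟩
      simp only [Set.mem_toFinset, mem_fixedBy] at hy
      simp [T, mul_smul, mem_stabilizer_iff.1 s.2, hy]
  have h2 : T.card = Nat.card (Subgroup.centralizer ({g} : Set G)) *
      Nat.card (classIn (stabilizer G a) g) := by
    rw [Finset.card_eq_sum_card_fiberwise (f := fun h : G => h⁻¹ * g * h)
      (t := (Set.toFinite (classIn (stabilizer G a) g)).toFinset) (fun h hh => ?_)]
    · rw [Finset.sum_const_nat (m := Nat.card (Subgroup.centralizer ({g} : Set G))),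
        mul_comm, Nat.card_coe_set_eq (classIn (stabilizer G a) g), Set.ncard_eq_toFinset_card _]
      intro s hs
      replace hs : s ∈ classIn (stabilizer G a) g := (Set.Finite.mem_toFinset _).1 hs
      obtain ⟨c, hc⟩ := isConj_iff.1 hs.2
      rw [Nat.card_eq_fintype_card, ← Finset.card_univ]
      refine Finset.card_bij (fun h _ => (⟨h * c, ?_⟩ : Subgroup.centralizer ({g} : Set G))) ?_ ?_ ?_
      · rename_i hh
        simp only [T, Finset.mem_filter, Finset.mem_univ, true_and] at hh
        rw [Subgroup.mem_centralizer_singleton_iff]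
        calc h * c * g = h * (c * g * c⁻¹) * c := by group
          _ = h * (h⁻¹ * g * h) * c := by rw [hc, hh.2]
          _ = g * (h * c) := by group
      · intros; exact Finset.mem_univ _
      · intro x hx y hy he
        simpa using congrArg (fun s : Subgroup.centralizer ({g} : Set G) => (s : G)) he
      · intro z _
        have hz : (z : G) * g = g * z := Subgroup.mem_centralizer_singleton_iff.1 z.2
        have he : ((z : G) * c⁻¹)⁻¹ * g * ((z : G) * c⁻¹) = s := by
          calc ((z : G) * c⁻¹)⁻¹ * g * ((z : G) * c⁻¹) = c * (z : G)⁻¹ * (g * z) * c⁻¹ := by group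
            _ = c * (z : G)⁻¹ * (z * g) * c⁻¹ := by rw [hz]
            _ = c * g * c⁻¹ := by group
            _ = s := hc
        refine ⟨(z : G) * c⁻¹, ?_, Subtype.ext (by simp)⟩
        simp only [T, Finset.mem_filter, Finset.mem_univ, true_and]
        refine ⟨?_, he⟩
        have hs1 : ((z : G) * c⁻¹)⁻¹ * g * ((z : G) * c⁻¹) ∈ stabilizer G a := he ▸ hs.1
        rw [mem_stabilizer_iff, mul_smul, mul_smul, inv_smul_eq_iff] at hs1
        exact hs1
    · simp only [T, Finset.coe_filter, Finset.mem_univ, true_and, Set.mem_setOf_eq] at hh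
      refine Finset.mem_coe.2 ((Set.Finite.mem_toFinset _).2 ⟨mem_stabilizer_iff.2 ?_,
        isConj_iff.2 ⟨h⁻¹, by group⟩⟩)
      rw [mul_smul, mul_smul, hh, inv_smul_smul]
  rw [← h1, h2]

/-- The centraliser of `g` permutes the fixed points of `g`. -/
theorem card_centralizer_le [Finite Ω] [Finite G] (a : Ω) (g : G) (ha : g • a = a) :
    Nat.card (Subgroup.centralizer ({g} : Set G)) ≤
      Nat.card (fixedBy Ω g) * Nat.card (Subgroup.centralizer ({g} : Set G) ⊓ stabilizer G a : Subgroup G) := by
  set C := Subgroup.centralizer ({g} : Set G)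
  have hsub : orbit C a ⊆ fixedBy Ω g := by
    rintro _ ⟨z, rfl⟩
    show g • ((z : G) • a) = (z : G) • a
    rw [← mul_smul, ← Subgroup.mem_centralizer_singleton_iff.1 z.2, mul_smul, ha]
  have hst : Nat.card (stabilizer C a) = Nat.card (C ⊓ stabilizer G a : Subgroup G) :=
    Nat.card_congr
      { toFun := fun x => ⟨((x : C) : G), (x : C).2, x.2⟩
        invFun := fun x => ⟨⟨x, x.2.1⟩, x.2.2⟩
        left_inv := fun _ => rfl
        right_inv := fun _ => rfl }
  have hmul := (stabilizer C a).index_mul_card
  rw [index_stabilizer, hst] at hmul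
  rw [← hmul]
  exact Nat.mul_le_mul_right _ (Set.ncard_le_ncard hsub (Set.toFinite _))

/-- The centraliser is transitive on the fixed points as soon as its orbit is large enough. -/
theorem fixedBy_eq_orbit [Finite Ω] (a : Ω) (g : G) (ha : g • a = a)
    (h : Nat.card (fixedBy Ω g) ≤ Nat.card (orbit (Subgroup.centralizer ({g} : Set G)) a)) :
    fixedBy Ω g = orbit (Subgroup.centralizer ({g} : Set G)) a := by
  refine (Set.eq_of_subset_of_ncard_le ?_ h (Set.toFinite _)).symm
  rintro _ ⟨z, rfl⟩
  show g • ((z : G) • a) = (z : G) • a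
  rw [← mul_smul, ← Subgroup.mem_centralizer_singleton_iff.1 z.2, mul_smul, ha]

end Cfsg.Agent.Lib.LyLocal84
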