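import Cfsg.Prelude
import Cfsg.Agent.Lib.McLCent.Cover

/-!
# Recognition of a non-split double cover of the alternating group of degree 11

A finite group of order at most `39916800` with a central involution `τ` and nine elements of order three
such that each product of two distinct ones squares to `τ` is a non-split double cover of `A₁₁`.
-/

set_option autoImplicit false

namespace Cfsg.Agent.Lib.LyLocal84

open Cfsg Cfsg.Agent.Lib.ShortPresSLn Cfsg.Agent.Lib.McLCent

variable {E : Type*} [Group E]

theorem isNonsplitDoubleCover_alt11 [Finite E] (τ : E) (hord : orderOf τ = 2)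
    (hc : ∀ g : E, g * τ = τ * g) (x : ℕ → E) (hcube : ∀ i < 9, x i ^ 3 = 1) (hne : x 0 ≠ 1)
    (hsq : ∀ i < 9, ∀ j < 9, i < j → (x i * x j) ^ 2 = τ) (hcard : Nat.card E ≤ 39916800) :
    IsNonsplitDoubleCover E (alternatingGroup (Fin 11)) := by
  have hτ2 : τ ^ 2 = 1 := by rw [← hord]; exact pow_orderOf_eq_one τ
  set Z := Subgroup.zpowers τ with hZ
  have hZc : Z ≤ Subgroup.center E :=
    Subgroup.zpowers_le.2 (Subgroup.mem_center_iff.2 hc)
  have : Z.Normal := ⟨fun n hn g => by
    rw [Subgroup.mem_center_iff.1 (hZc hn) g, mul_inv_cancel_right]; exact hn⟩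
  have hZcard : Nat.card Z = 2 := by rw [hZ, Nat.card_zpowers, hord]
  have hsq' : ∀ i < 9, ∀ j < 9, i ≠ j → (x i * x j) ^ 2 = τ := by
    intro i hi j hj hij
    rcases lt_or_gt_of_ne hij with h | h
    · exact hsq i hi j hj h
    · have h1 := hsq j hj i hi h
      calc (x i * x j) ^ 2 = x i * (x j * x i) ^ 2 * (x i)⁻¹ := by simp [pow_two, mul_assoc]
        _ = τ := by rw [h1, hc (x i), mul_inv_cancel_right]
  have R : CarmRel 9 (fun i => QuotientGroup.mk' Z (x i)) :=
    ⟨fun i hi => by rw [← map_pow, hcube i hi, map_one], fun i hi j hj hij => by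
      rw [← map_mul, ← map_pow, hsq' i hi j hj hij]
      exact (QuotientGroup.eq_one_iff τ).2 (Subgroup.mem_zpowers τ)⟩
  obtain ⟨ρ, hρ⟩ := exists_hom R
  have hx0 : x 0 ∉ Z := by
    intro h
    rcases mem_zpowers_two hτ2 h with h0 | h0
    · exact hne h0
    · have h3 := hcube 0 (by norm_num)
      rw [h0, pow_succ, hτ2, one_mul] at h3
      exact hne (h0.trans h3)
  have : IsSimpleGroup (alternatingGroup (Fin 11)) :=
    alternatingGroup.isSimpleGroup (by simp)
  have hinj : Function.Injective ρ := by
    rw [← MonoidHom.ker_eq_bot_iff]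
    refine (MonoidHom.normal_ker ρ).eq_bot_or_eq_top.resolve_right fun h => hx0 ?_
    have h0 := hρ 0 (by norm_num)
    rw [MonoidHom.mem_ker.1 (h ▸ Subgroup.mem_top _)] at h0
    exact (QuotientGroup.eq_one_iff _).1 h0.symm
  have hA : Nat.card (alternatingGroup (Fin 11)) = 19958400 := by
    rw [nat_card_alternatingGroup, Nat.card_fin]; norm_num [Nat.factorial]
  have hE : Nat.card E = Nat.card (E ⧸ Z) * 2 := by
    rw [← hZcard]; exact Subgroup.card_eq_card_quotient_mul_card_subgroup Z
  have hle := Nat.card_le_card_of_injective ρ hinj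
  have hbij : Function.Bijective ρ := by
    refine (Nat.bijective_iff_injective_and_card ρ).2 ⟨hinj, le_antisymm hle ?_⟩
    show Nat.card (E ⧸ Z) ≤ Nat.card (alternatingGroup (Fin 11))
    rw [hA]
    omega
  let e := MulEquiv.ofBijective ρ hbij
  have hcenA : Subgroup.center (alternatingGroup (Fin 11)) = ⊥ :=
    alternatingGroup.center_eq_bot (by simp)
  have hcen : Subgroup.center E = Z := by
    refine le_antisymm (fun z hz => ?_) hZc
    have h1 : e.symm (QuotientGroup.mk' Z z) ∈ Subgroup.center (alternatingGroup (Fin 11)) := by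
      rw [Subgroup.mem_center_iff]
      intro a
      obtain ⟨g, hg⟩ := QuotientGroup.mk'_surjective Z (e a)
      refine e.injective ?_
      rw [map_mul, map_mul, e.apply_symm_apply, ← hg, ← map_mul, ← map_mul,
        Subgroup.mem_center_iff.1 hz g]
    rw [hcenA, Subgroup.mem_bot, MulEquiv.map_eq_one_iff] at h1
    exact (QuotientGroup.eq_one_iff z).1 h1
  refine ⟨by rw [hcen, hZcard], ⟨(QuotientGroup.quotientMulEquivOfEq hcen).trans e.symm⟩, ?_⟩
  rw [hcen]
  intro L hL
  have hmem : ∀ i < 9, x i ∈ L := by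
    intro i hi
    obtain ⟨⟨z, l⟩, hzl⟩ := hL.2 (x i)
    have hzl' : (z : E) * l = x i := hzl
    have hzc := Subgroup.mem_center_iff.1 (hZc z.2)
    rcases mem_zpowers_two hτ2 z.2 with hz | hz
    · rw [← hzl', hz, one_mul]; exact l.2
    · exfalso
      have h3 := hcube i hi
      rw [← hzl', (show Commute (z : E) l from (hzc l).symm).mul_pow, hz, pow_succ τ, hτ2,
        one_mul] at h3
      have hτL : τ ∈ L := by
        rw [eq_inv_of_mul_eq_one_left h3]
        exact L.inv_mem (L.pow_mem l.2 3)
      have : τ = 1 := Subgroup.disjoint_def.1 hL.disjoint (Subgroup.mem_zpowers τ) hτL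
      rw [this, orderOf_one] at hord
      exact absurd hord (by norm_num)
  have hτL : τ ∈ L := by
    rw [← hsq 0 (by norm_num) 1 (by norm_num) (by norm_num)]
    exact L.pow_mem (L.mul_mem (hmem 0 (by norm_num)) (hmem 1 (by norm_num))) 2
  have : τ = 1 := Subgroup.disjoint_def.1 hL.disjoint (Subgroup.mem_zpowers τ) hτL
  rw [this, orderOf_one] at hord
  exact absurd hord (by norm_num)

end Cfsg.Agent.Lib.LyLocal84
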