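import Cfsg.Agent.Lib.CosetEnum.LyP.Order
import Cfsg.Agent.Lib.LyLocal84.Count

/-!
Checked computations with words in the group `P` of order 5859000000 acting on 3906 points: fixed points,
lists of distinct elements, distinct conjugates.
-/

set_option autoImplicit false

namespace Cfsg.Agent.Lib.LyLocal84

open Cfsg.Agent.Lib.CosetEnum Cfsg.Agent.Lib.ExactCover MulAction
open Cfsg.Agent.Lib.CosetEnum.LyP (pres letters table act)

/-- The group. -/
abbrev P : Type := PresentedGroup pres

/-- The value of a word. -/
noncomputable abbrev el (u : List ℕ) : P := LyP.val u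

/-- The word only has the ten letters. -/
def okW (u : List ℕ) : Bool := u.all fun g => Nat.blt g 10

/-- The image of a point. -/
noncomputable def im (u : List ℕ) (x : ℕ) : ℕ := scan 10 table u x

/-- A number determined by the images of the base. -/
noncomputable def key (u : List ℕ) : ℕ :=
  Nat.add (Nat.mul (Nat.add (Nat.mul (Nat.add (Nat.mul (im u 0) 4096) (im u 1)) 4096) (im u 2)) 4096)
    (im u 4)

theorem okW_iff {u : List ℕ} : okW u = true ↔ ∀ g ∈ u, g < 10 := by
  simp [okW, List.all_eq_true]

theorem okW_append {u v : List ℕ} (hu : okW u = true) (hv : okW v = true) : okW (u ++ v) = true := by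
  simp only [okW_iff, List.mem_append] at hu hv ⊢
  rintro g (h | h)
  · exact hu g h
  · exact hv g h

theorem el_append (u v : List ℕ) : el (u ++ v) = el u * el v := by simp [el, LyP.val]

theorem el_nil : el [] = 1 := by simp [el, LyP.val]

theorem flip_lt {g : ℕ} (hg : g < 10) : ExactCover.flip g < 10 := by
  interval_cases g <;> decide

theorem el_flip {g : ℕ} (hg : g < 10) : el [ExactCover.flip g] = (el [g])⁻¹ := by
  have hI : invL letters.IV g = ExactCover.flip g := by
    revert g; decide +kernel
  have := (Letters.phi_inv (L := letters) (S := pres) LyP.rels_mem LyP.letters_ok (g := g)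
    (hg.le.trans_eq rfl)).2
  rw [hI] at this
  simpa [el, LyP.val] using this

theorem okW_invWord {u : List ℕ} (h : okW u = true) : okW (invWord u) = true := by
  simp only [okW_iff, invWord, List.mem_reverse, List.mem_map] at h ⊢
  rintro _ ⟨g, hg, rfl⟩
  exact flip_lt (h g hg)

theorem el_invWord : ∀ {u : List ℕ}, okW u = true → el (invWord u) = (el u)⁻¹
  | [], _ => by simp [invWord, el, LyP.val]
  | g :: u, h => by
    simp only [okW, List.all_cons, Bool.and_eq_true, Nat.blt_eq] at h
    rw [show invWord (g :: u) = invWord u ++ [ExactCover.flip g] by simp [invWord], el_append,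
      el_invWord (u := u) h.2, el_flip h.1, show g :: u = [g] ++ u from rfl, el_append, mul_inv_rev]

theorem act_im (u : List ℕ) (hu : okW u = true) (i : Fin 3906) :
    ((act (el u))⁻¹ i).1 = im u i.1 := LyP.act_word u (okW_iff.1 hu) i

theorem im_lt {u : List ℕ} (hu : okW u = true) {x : ℕ} (hx : x < 3906) : im u x < 3906 := by
  have := ((act (el u))⁻¹ ⟨x, hx⟩).2
  rwa [act_im u hu] at this

theorem act_fix_iff (u : List ℕ) (hu : okW u = true) (i : Fin 3906) :
    act (el u) i = i ↔ im u i.1 = i.1 := by
  rw [← act_im u hu i, ← Fin.ext_iff, Equiv.Perm.inv_def, Equiv.symm_apply_eq, eq_comm]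

theorem el_eq_of_key {u v : List ℕ} (hu : okW u = true) (hv : okW v = true) (h : key u = key v) :
    el u = el v := by
  refine LyP.val_eq_of_base u v (okW_iff.1 hu) (okW_iff.1 hv) ?_
  have b : ∀ w, okW w = true → ∀ c, c < 3906 → im w c < 4096 := fun w hw c hc =>
    (im_lt hw hc).trans (by norm_num)
  simp only [key, Nat.add_eq, Nat.mul_eq] at h
  have u0 := b u hu 0 (by norm_num); have v0 := b v hv 0 (by norm_num)
  have u1 := b u hu 1 (by norm_num); have v1 := b v hv 1 (by norm_num)
  have u2 := b u hu 2 (by norm_num); have v2 := b v hv 2 (by norm_num)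
  have u4 := b u hu 4 (by norm_num); have v4 := b v hv 4 (by norm_num)
  intro c hc
  simp only [List.mem_cons, List.not_mem_nil, or_false] at hc
  rcases hc with rfl | rfl | rfl | rfl <;>
    · change im u _ = im v _
      omega

theorem key_eq_of_el {u v : List ℕ} (hu : okW u = true) (hv : okW v = true) (h : el u = el v) :
    key u = key v := by
  have e : ∀ c, c < 3906 → im u c = im v c := fun c hc => by
    rw [← act_im u hu ⟨c, hc⟩, ← act_im v hv ⟨c, hc⟩, h]
  simp only [key, e 0 (by norm_num), e 1 (by norm_num), e 2 (by norm_num), e 4 (by norm_num)]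

/-! ### Packed words -/

/-- Unpack a word of letters stored in base 16, shifted by one. -/
def unpackF : ℕ → ℕ → List ℕ
  | 0, _ => []
  | n + 1, w => bif Nat.beq w 0 then [] else (w % 16 - 1) :: unpackF n (w / 16)

/-- A packed word. -/
def unpack (w : ℕ) : List ℕ := unpackF 120 w

/-- A word in given words, packed. -/
def subst (gens : List (List ℕ)) (w : ℕ) : List ℕ := ((unpack w).map fun g => gens.getD g []).flatten

/-- Every item passes, and the keys increase. -/
noncomputable def incr (p : List ℕ → Bool) : ℕ → List (List ℕ) → Bool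
  | _, [] => true
  | lo, u :: us => p u && force (key u) fun k => Nat.blt lo (Nat.succ k) && incr p (Nat.succ k) us

theorem incr_spec {p : List ℕ → Bool} : ∀ {l : List (List ℕ)} {lo : ℕ}, incr p lo l = true →
    (∀ u ∈ l, p u = true ∧ lo < key u + 1) ∧ (l.map key).Nodup := by
  intro l
  induction l with
  | nil => simp
  | cons u us ih =>
    intro lo h
    simp only [incr, force_eq, Bool.and_eq_true, Nat.blt_eq, Nat.succ_eq_add_one] at h
    obtain ⟨hp, hlo, hrest⟩ := h
    obtain ⟨h1, h2⟩ := ih hrest
    refine ⟨?_, ?_⟩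
    · intro v hv
      rcases List.mem_cons.1 hv with rfl | hv
      · exact ⟨hp, hlo⟩
      · exact ⟨(h1 v hv).1, hlo.trans (h1 v hv).2⟩
    · rw [List.map_cons, List.nodup_cons]
      refine ⟨fun hm => ?_, h2⟩
      obtain ⟨v, hv, he⟩ := List.mem_map.1 hm
      have := (h1 v hv).2
      omega

/-- Distinct elements from increasing keys. -/
theorem card_ge_of_incr {p : List ℕ → Bool} {l : List (List ℕ)} {lo : ℕ} (h : incr p lo l = true)
    (hok : ∀ u, p u = true → okW u = true) (s : Set P) (hs : ∀ u, p u = true → el u ∈ s) :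
    l.length ≤ Nat.card s := by
  classical
  obtain ⟨h1, h2⟩ := incr_spec h
  have hn : (l.map el).Nodup := by
    refine List.Nodup.map_on (fun u hu v hv he => ?_) (List.Nodup.of_map key h2)
    exact List.inj_on_of_nodup_map h2 hu hv
      (key_eq_of_el (hok _ (h1 u hu).1) (hok _ (h1 v hv).1) he)
  rw [← List.length_map (f := el), ← List.toFinset_card_of_nodup hn, Nat.card_coe_set_eq,
    ← Set.ncard_coe_finset]
  refine Set.ncard_le_ncard ?_ (Set.toFinite _)
  intro x hx
  simp only [List.coe_toFinset, Set.mem_setOf_eq, List.mem_map] at hx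
  obtain ⟨u, hu, rfl⟩ := hx
  exact hs u (h1 u hu).1

/-! ### Fixed points -/

/-- The number of `i < n` with `p i`. -/
noncomputable def countBelow (n : ℕ) (p : ℕ → Bool) : ℕ :=
  Nat.rec 0 (fun i ih => bif p i then Nat.succ ih else ih) n

theorem countBelow_eq (n : ℕ) (p : ℕ → Bool) :
    countBelow n p = ((Finset.range n).filter fun i => p i = true).card := by
  induction n with
  | zero => rfl
  | succ n ih =>
    rw [Finset.range_add_one, Finset.filter_insert]
    change (bif p n then Nat.succ (countBelow n p) else countBelow n p) = _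
    cases hp : p n
    · simp [ih]
    · simp [ih, Finset.card_insert_of_notMem]

theorem card_fixed (u : List ℕ) (hu : okW u = true) :
    Nat.card {i : Fin 3906 // act (el u) i = i} = countBelow 3906 (fun i => Nat.beq (im u i) i) := by
  classical
  rw [countBelow_eq, Nat.card_eq_fintype_card, Fintype.card_subtype]
  refine Finset.card_bij (fun i _ => i.1) ?_ (fun a _ b _ h => Fin.ext h) ?_
  · intro i hi
    simp only [Finset.mem_filter, Finset.mem_range, Nat.beq_eq]
    exact ⟨i.2, (act_fix_iff u hu i).1 (Finset.mem_filter.1 hi).2⟩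
  · intro x hx
    simp only [Finset.mem_filter, Finset.mem_range, Nat.beq_eq] at hx
    exact ⟨⟨x, hx.1⟩, Finset.mem_filter.2 ⟨Finset.mem_univ _, (act_fix_iff u hu _).2 hx.2⟩, rfl⟩

/-! ### The action -/

/-- The natural action of `P` on the points. -/
noncomputable instance instAct : MulAction P (Fin 3906) := MulAction.compHom _ act

theorem smul_def' (p : P) (i : Fin 3906) : p • i = act p i := rfl

/-- Conjugates of `u` fixing the first point give an upper bound on its centraliser. -/
theorem centralizer_bound (htrans : MulAction.IsPretransitive P (Fin 3906)) (u : List ℕ)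
    (hu : okW u = true) (conjs : List (List ℕ)) (f : ℕ)
    (hfix : countBelow 3906 (fun i => Nat.beq (im u i) i) = f)
    (hconj : incr (fun v => okW v && Nat.beq (im v 0) 0) 0
      (conjs.map fun h => invWord h ++ (u ++ h)) = true)
    (hh : conjs.all okW = true) :
    Nat.card (Subgroup.centralizer ({el u} : Set P)) * conjs.length ≤ f * 1500000 := by
  have h := card_fixedBy_mul_card_stabilizer (G := P) (⟨0, by norm_num⟩ : Fin 3906) (el u)
  have hf : Nat.card (fixedBy (Fin 3906) (el u)) = f := by
    rw [← hfix, ← card_fixed u hu]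
    rfl
  have hs : Nat.card (stabilizer P (⟨0, by norm_num⟩ : Fin 3906)) = 1500000 := by
    have := (stabilizer P (⟨0, by norm_num⟩ : Fin 3906)).index_mul_card
    rw [index_stabilizer, orbit_eq_univ P _, Set.ncard_univ, Nat.card_fin, LyP.card_P.1] at this
    omega
  rw [hf, hs] at h
  rw [h]
  refine Nat.mul_le_mul_left _ ?_
  have hlen : conjs.length = (conjs.map fun h => invWord h ++ (u ++ h)).length := by simp
  rw [hlen]
  classical
  obtain ⟨h1, h2⟩ := incr_spec hconj
  let q : List ℕ → Bool := fun v =>
    okW v && Nat.beq (im v 0) 0 && decide (v ∈ conjs.map fun h => invWord h ++ (u ++ h))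
  have hq : ∀ (l : List (List ℕ)) (lo : ℕ), (∀ v ∈ l, v ∈ conjs.map fun h => invWord h ++ (u ++ h)) →
      incr (fun v => okW v && Nat.beq (im v 0) 0) lo l = true → incr q lo l = true := by
    intro l
    induction l with
    | nil => intros; rfl
    | cons a as ih =>
      intro lo hm hi
      simp only [incr, force_eq, Bool.and_eq_true] at hi ⊢
      exact ⟨by simp only [q, Bool.and_eq_true, decide_eq_true_eq]; exact ⟨hi.1, hm a List.mem_cons_self⟩,
        hi.2.1, ih _ (fun v hv => hm v (List.mem_cons_of_mem _ hv)) hi.2.2⟩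
  refine card_ge_of_incr (hq _ _ (fun v hv => hv) hconj) (fun v hv => ?_) _ (fun v hv => ?_)
  · simp only [q, Bool.and_eq_true] at hv
    exact hv.1.1
  · simp only [q, Bool.and_eq_true, Nat.beq_eq, decide_eq_true_eq] at hv
    obtain ⟨⟨hok, h0⟩, hm⟩ := hv
    obtain ⟨w, hw, rfl⟩ := List.mem_map.1 hm
    have hwok : okW w = true := List.all_eq_true.1 hh w hw
    refine ⟨(act_fix_iff _ hok _).2 h0, isConj_iff.2 ⟨(el w)⁻¹, ?_⟩⟩
    rw [el_append, el_append, el_invWord hwok, inv_inv, mul_assoc]

end Cfsg.Agent.Lib.LyLocal84
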