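import Mathlib

/-!
# Simplicity from a rank five action on 7128 points

A faithful transitive group on `7128` points whose point stabiliser is simple, with suborbits of lengths
`1, 252, 750, 3500, 2625`, is simple.
-/

set_option autoImplicit false

namespace Cfsg.Agent.Lib.LyLocal84

open MulAction

/-- The suborbit lengths. -/
def subLen : Fin 5 → ℕ := ![1, 252, 750, 3500, 2625]

theorem sum_dvd_cases : ∀ S : Finset (Fin 5), 0 ∈ S → (∑ i ∈ S, subLen i) ∣ 7128 →
    S = {0} ∨ S = Finset.univ := by
  decide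

theorem isSimpleGroup_of_rankFive {X Ω : Type*} [Group X] [Finite X] [MulAction X Ω] [Finite Ω]
    [FaithfulSMul X Ω] [MulAction.IsPretransitive X Ω] (a : Ω) (hcard : Nat.card Ω = 7128)
    [hU : IsSimpleGroup (stabilizer X a)] (f : Ω → Fin 5) (hf0 : ∀ x, f x = 0 ↔ x = a)
    (hinv : ∀ u ∈ stabilizer X a, ∀ x, f (u • x) = f x)
    (htr : ∀ x y, f x = f y → ∃ u ∈ stabilizer X a, u • x = y)
    (hlen : ∀ i, Nat.card {x // f x = i} = subLen i) : IsSimpleGroup X := by
  classical
  let : Fintype Ω := Fintype.ofFinite Ω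
  have hlen' : ∀ i, (Finset.univ.filter fun x => f x = i).card = subLen i := fun i => by
    rw [← hlen i, Nat.card_eq_fintype_card, Fintype.card_subtype]
  obtain ⟨v, hv⟩ := exists_ne (1 : stabilizer X a)
  have : Nontrivial X := ⟨⟨(v : X), 1, fun h => hv (Subtype.ext h)⟩⟩
  refine ⟨fun N hN => ?_⟩
  rcases eq_or_ne N ⊥ with rfl | hne
  · exact Or.inl rfl
  right
  -- the orbit of `a` under `N`
  set O : Finset Ω := (orbit N a).toFinset with hO
  have hmem : ∀ x, x ∈ O ↔ ∃ n ∈ N, n • a = x := fun x => by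
    rw [hO, Set.mem_toFinset]
    exact ⟨fun ⟨n, hn⟩ => ⟨n, n.2, hn⟩, fun ⟨n, hn, h⟩ => ⟨⟨n, hn⟩, h⟩⟩
  set S : Finset (Fin 5) := O.image f with hS
  have hclosed : ∀ x y, x ∈ O → f x = f y → y ∈ O := by
    intro x y hx hxy
    obtain ⟨u, hu, rfl⟩ := htr x y hxy
    obtain ⟨n, hn, rfl⟩ := (hmem x).1 hx
    refine (hmem _).2 ⟨u * n * u⁻¹, hN.conj_mem n hn u, ?_⟩
    rw [mul_smul, mul_smul, mem_stabilizer_iff.1 (inv_mem hu)]
  have hOcard : O.card = ∑ i ∈ S, subLen i := by
    rw [Finset.card_eq_sum_card_image f O, ← hS]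
    refine Finset.sum_congr rfl fun i hi => ?_
    rw [← hlen' i]
    congr 1
    ext x
    simp only [Finset.mem_filter, Finset.mem_univ, true_and]
    refine ⟨fun h => h.2, fun h => ⟨?_, h⟩⟩
    obtain ⟨y, hy, hyi⟩ := Finset.mem_image.1 hi
    exact hclosed y x hy (hyi.trans h.symm)
  have hdvd : O.card ∣ 7128 := by
    rw [← hcard, hO, Set.toFinset_card, ← Nat.card_eq_fintype_card]
    exact (IsBlock.orbit_of_normal (N := N) a).ncard_dvd_card ⟨a, mem_orbit_self a⟩
  have h0 : (0 : Fin 5) ∈ S :=
    Finset.mem_image.2 ⟨a, (hmem a).2 ⟨1, N.one_mem, one_smul _ _⟩, (hf0 a).2 rfl⟩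
  have htrN : ∀ x, ∃ n ∈ N, n • a = x := by
    rcases sum_dvd_cases S h0 (hOcard ▸ hdvd) with h1 | h1
    · exfalso
      refine hne ((Subgroup.eq_bot_iff_forall N).2 fun n hn => eq_of_smul_eq_smul fun x : Ω => ?_)
      obtain ⟨g, rfl⟩ := exists_smul_eq X a x
      have hfix : (g⁻¹ * n * g) • a = a := by
        have hi : f ((g⁻¹ * n * g) • a) ∈ S :=
          Finset.mem_image.2 ⟨_, (hmem _).2 ⟨_, by simpa using hN.conj_mem n hn g⁻¹, rfl⟩, rfl⟩
        rw [h1, Finset.mem_singleton] at hi
        exact (hf0 _).1 hi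
      rw [mul_smul, mul_smul, inv_smul_eq_iff] at hfix
      rw [hfix, one_smul]
    · intro x
      refine (hmem x).1 ?_
      obtain ⟨y, hy, hyx⟩ := Finset.mem_image.1 (h1 ▸ Finset.mem_univ (f x))
      exact hclosed y x hy hyx
  -- the intersection with the point stabiliser
  have hnorm : (N.subgroupOf (stabilizer X a)).Normal := inferInstance
  rcases hnorm.eq_bot_or_eq_top with hbot | htop
  swap
  · rw [Subgroup.subgroupOf_eq_top] at htop
    refine (Subgroup.eq_top_iff' N).2 fun g => ?_
    obtain ⟨n, hn, h⟩ := htrN (g • a)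
    have : n⁻¹ * g ∈ N := htop (by rw [mem_stabilizer_iff, mul_smul, ← h, inv_smul_smul])
    simpa using N.mul_mem hn this
  exfalso
  have hfree : ∀ n ∈ N, n • a = a → n = 1 := fun n hn h => by
    have : (⟨n, h⟩ : stabilizer X a) ∈ N.subgroupOf (stabilizer X a) := hn
    rw [hbot, Subgroup.mem_bot] at this
    exact congrArg Subtype.val this
  let e : N ≃ Ω := Equiv.ofBijective (fun n : N => (n : X) • a) ⟨fun n m h => by
      have := hfree ((m : X)⁻¹ * n) (N.mul_mem (N.inv_mem m.2) n.2)
        (by simp only at h; rw [mul_smul, h, inv_smul_smul])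
      exact Subtype.ext (inv_mul_eq_one.1 this).symm,
    fun x => by obtain ⟨n, hn, h⟩ := htrN x; exact ⟨⟨n, hn⟩, h⟩⟩
  have hN7128 : Nat.card N = 7128 := (Nat.card_congr e).trans hcard
  have : Fact (Nat.Prime 11) := ⟨by norm_num⟩
  obtain ⟨n₀, hn₀⟩ := exists_prime_orderOf_dvd_card' (G := N) 11 (by rw [hN7128]; norm_num)
  -- the elements of order `11` fill whole suborbits
  set T : Finset Ω := Finset.univ.filter fun x => orderOf (e.symm x) = 11 with hT
  have hTinv : ∀ u ∈ stabilizer X a, ∀ x, x ∈ T → u • x ∈ T := by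
    intro u hu x hx
    simp only [hT, Finset.mem_filter, Finset.mem_univ, true_and] at hx ⊢
    have he : e.symm (u • x) = MulAut.conjNormal u (e.symm x) := by
      rw [Equiv.symm_apply_eq]
      change u • x = (MulAut.conjNormal u (e.symm x) : X) • a
      rw [MulAut.conjNormal_apply, mul_smul, mul_smul, mem_stabilizer_iff.1 (inv_mem hu)]
      exact congrArg (u • ·) (e.apply_symm_apply x).symm
    rw [he, MulEquiv.orderOf_eq, hx]
  have hx₀ : e n₀ ∈ T := by simp [hT, hn₀]
  have hne0 : f (e n₀) ≠ 0 := fun h => by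
    have h1 : n₀ = 1 := Subtype.ext (hfree n₀ n₀.2 ((hf0 _).1 h))
    rw [h1, orderOf_one] at hn₀
    norm_num at hn₀
  have hbig : 252 ≤ T.card := by
    calc 252 ≤ subLen (f (e n₀)) := by
          generalize f (e n₀) = i at hne0
          fin_cases i <;> simp_all [subLen]
      _ = (Finset.univ.filter fun x => f x = f (e n₀)).card := (hlen' _).symm
      _ ≤ T.card := Finset.card_le_card fun x hx => by
          obtain ⟨u, hu, rfl⟩ := htr (e n₀) x (Finset.mem_filter.1 hx).2.symm
          exact hTinv u hu _ hx₀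
  -- but there are at most twelve Sylow 11-subgroups
  let : Fintype (Sylow 11 N) := Fintype.ofFinite _
  have hsyl : Fintype.card (Sylow 11 N) ≤ 12 := by
    obtain ⟨P⟩ : Nonempty (Sylow 11 N) := inferInstance
    have hP : Nat.card P = 11 := by
      have h11 : (7128 : ℕ).factorization 11 = 1 := by
        rw [show (7128 : ℕ) = 11 * 648 by norm_num, Nat.factorization_mul (by norm_num) (by norm_num),
          Finsupp.add_apply, Nat.Prime.factorization_self (by norm_num : Nat.Prime 11),
          Nat.factorization_eq_zero_of_not_dvd (by norm_num)]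
      rw [P.card_eq_multiplicity, hN7128, h11, pow_one]
    have hi : (P : Subgroup N).index = 648 := by
      have := (P : Subgroup N).card_mul_index
      rw [hP, hN7128] at this
      omega
    have h1 := P.card_dvd_index
    rw [hi, Nat.card_eq_fintype_card] at h1
    have h2 := card_sylow_modEq_one 11 N
    rw [Nat.card_eq_fintype_card, Nat.ModEq] at h2
    have key : ∀ m : ℕ, m < 649 → m ∣ 648 → m % 11 = 1 → m ≤ 12 := by decide +kernel
    exact key _ (Nat.lt_succ_of_le (Nat.le_of_dvd (by norm_num) h1)) h1 (by simpa using h2)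
  let cover : Finset Ω := Finset.univ.biUnion fun P : Sylow 11 N =>
    (Finset.univ.filter fun x => e.symm x ∈ (P : Subgroup N))
  have hcov : T ⊆ cover := by
    intro x hx
    simp only [hT, Finset.mem_filter, Finset.mem_univ, true_and] at hx
    obtain ⟨P, hP⟩ := (IsPGroup.of_card (p := 11) (n := 1)
      (G := Subgroup.zpowers (e.symm x)) (by rw [Nat.card_zpowers, hx, pow_one])).exists_le_sylow
    exact Finset.mem_biUnion.2 ⟨P, Finset.mem_univ _,
      by simp [hP (Subgroup.mem_zpowers (e.symm x))]⟩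
  have hPle : ∀ P : Sylow 11 N,
      (Finset.univ.filter fun x => e.symm x ∈ (P : Subgroup N)).card ≤ 11 := by
    intro P
    have h1 : Nat.card P ∣ 11 ^ 1 * 648 := by
      have := (P : Subgroup N).card_subgroup_dvd_card
      rw [hN7128] at this
      simpa using this
    have h2 : Nat.card P ≤ 11 := by
      obtain ⟨k, hk⟩ := IsPGroup.iff_card.1 P.2
      rw [hk] at h1 ⊢
      have : k ≤ 1 := by
        by_contra hk2
        have := (pow_dvd_pow 11 (show 2 ≤ k by omega)).trans h1
        norm_num at this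
      interval_cases k <;> norm_num
    refine le_trans (le_of_eq ?_) h2
    rw [← Fintype.card_subtype, ← Nat.card_eq_fintype_card]
    exact Nat.card_congr (e.symm.subtypeEquiv fun x => Iff.rfl)
  have := (Finset.card_le_card hcov).trans
    (Finset.card_biUnion_le_card_mul _ _ 11 fun P _ => hPle P)
  rw [Finset.card_univ] at this
  omega

end Cfsg.Agent.Lib.LyLocal84
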