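import Cfsg.Agent.Lib.LyLocal84.CentP
import Cfsg.Agent.Lib.LyLocal84.UData

/-! The checked facts about the centraliser of the element of order three in `P`. -/

set_option autoImplicit false
set_option maxRecDepth 100000
set_option maxHeartbeats 4000000
set_option Elab.async false

namespace Cfsg.Agent.Lib.LyLocal84

open Cfsg.Agent.Lib.CosetEnum Cfsg.Agent.Lib.ExactCover

/-- A word commuting with the element of order three. -/
noncomputable def commW (w : List ℕ) : Bool := okW w && Nat.beq (key (w ++ xW)) (key (xW ++ w))

/-- The word given by a code. -/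
def stabW (c : ℕ) : List ℕ := subst uGens c

/-- The elements of the stabiliser. -/
def stabList : List (List ℕ) := stabCodes.map stabW

/-- The word has the same value as a power of the element of order three, or moves `q`. -/
noncomputable def kerTest (w : List ℕ) (q : ℕ) : Bool :=
  force (key w) (fun k => Nat.beq k (key []) || (Nat.beq k (key xW) || Nat.beq k (key (xW ++ xW)))) ||
    (Nat.blt q 3906 && (Nat.beq (im xW q) q && !Nat.beq (im w q) q))

/-- A product of conjugates of powers of `zW` and of a power of `xW`. -/
def prodW (d : List (ℕ × ℕ) × ℕ) : List ℕ :=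
  (d.1.map fun p => invWord (unpack p.2) ++ ((List.replicate p.1 zW).flatten ++ unpack p.2)).flatten ++
    (List.replicate d.2 xW).flatten

theorem fixPts_eq : (List.range 3906).filter (fun i => Nat.beq (im xW i) i) = fixPts := by
  decide +kernel

theorem uGens_ok : uGens.all (fun w => commW w && Nat.beq (im w 0) 0) = true ∧
    commW zW = true ∧ im zW 0 = 0 := by decide +kernel

theorem orb_ok : fixPts.length = orbWords.length ∧
    (fixPts.zip orbWords).all (fun p => commW (unpack p.2) && Nat.beq (im (unpack p.2) 0) p.1) = true := by
  decide +kernel

theorem stab_incr : incr (fun w => okW w && Nat.beq (im w 0) 0) 0 stabList = true ∧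
    stabList.length = 3000 := by decide +kernel

theorem stab_ker : stabMoved.length = 3000 ∧
    (stabCodes.zip stabMoved).all (fun p => kerTest (stabW p.1) p.2) = true := by decide +kernel

theorem trans_ok : transPts.length = 125 ∧ transCodes.length = 125 ∧ fixPts = 0 :: transPts ∧
    (transPts.zip transCodes).all (fun p => okW (stabW p.2) && Nat.beq (im (stabW p.2) 1) p.1) = true := by
  decide +kernel

theorem z_norm : (uGens.zip zExp).all
    (fun p => Nat.beq (key (invWord p.1 ++ (zW ++ p.1))) (key (List.replicate p.2 zW).flatten)) = true := by
  decide +kernel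

theorem z_comm : okW zA = true ∧ okW zB = true ∧ commW zA = true ∧ commW zB = true ∧
    key (zA ++ (zB ++ (invWord zA ++ invWord zB))) = key zW ∧ im zW zMoved ≠ zMoved ∧
    im xW zMoved = zMoved := by decide +kernel

theorem z_prod : (uGens.zip zProd).all (fun p => okW (prodW p.2) &&
    (p.2.1.all (fun q => commW (unpack q.2)) && Nat.beq (key (prodW p.2)) (key p.1))) = true := by
  decide +kernel

theorem xW_mem : im xW 0 = 0 ∧ im xW 1 = 1 ∧ okW xW = true := by decide +kernel

end Cfsg.Agent.Lib.LyLocal84
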