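import Cfsg.Agent.Lib.LyLocal84.UCheck

/-!
# The centraliser of the element of order three in `P`

It has order `378000` and its action on the `126` fixed points has kernel `⟨x⟩` and simple image of order
`126000` (Iwasawa's criterion).
-/

set_option autoImplicit false
set_option maxRecDepth 100000
set_option maxHeartbeats 600000

namespace Cfsg.Agent.Lib.LyLocal84

open Cfsg.Agent.Lib.CosetEnum Cfsg.Agent.Lib.ExactCover MulAction
open scoped Pointwise commutatorElement

/-- The element of order three. -/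
noncomputable abbrev xP : P := el xW

/-- Its centraliser in `P`. -/
noncomputable abbrev CX : Subgroup P := Subgroup.centralizer ({xP} : Set P)

/-- Its fixed points. -/
def FixPt : Type := {i : Fin 3906 // el xW • i = i}

noncomputable instance : Finite FixPt := inferInstanceAs (Finite {i : Fin 3906 // el xW • i = i})

theorem commW_mem {w : List ℕ} (h : commW w = true) : el w ∈ CX := by
  simp only [commW, Bool.and_eq_true, Nat.beq_eq] at h
  rw [Subgroup.mem_centralizer_singleton_iff]
  have he := el_eq_of_key (okW_append h.1 xW_mem.2.2) (okW_append xW_mem.2.2 h.1) h.2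
  rwa [el_append, el_append] at he

theorem smul_fixed {c : P} (hc : c ∈ CX) (i : FixPt) : el xW • (c • i.1) = c • i.1 := by
  have h := Subgroup.mem_centralizer_singleton_iff.1 hc
  rw [← mul_smul, ← h, mul_smul, i.2]

noncomputable instance : MulAction CX FixPt where
  smul c i := ⟨(c : P) • i.1, smul_fixed c.2 i⟩
  one_smul i := Subtype.ext (one_smul P i.1)
  mul_smul c d i := Subtype.ext (mul_smul (c : P) d i.1)

theorem smul_fix_val (c : CX) (i : FixPt) : (c • i : FixPt).1 = (c : P) • i.1 := rfl

theorem smul_iff (w : List ℕ) (hw : okW w = true) (i j : Fin 3906) :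
    el w • i = j ↔ im w j.1 = i.1 := by
  rw [← act_im w hw j, ← Fin.ext_iff, smul_def', Equiv.Perm.inv_def, Equiv.symm_apply_eq, eq_comm]

theorem mem_fixPts (i : FixPt) : i.1.1 ∈ fixPts := by
  rw [← fixPts_eq, List.mem_filter, List.mem_range]
  exact ⟨i.1.2, Nat.beq_eq.mpr ((smul_iff xW xW_mem.2.2 _ _).1 i.2)⟩

/-- The base point. -/
noncomputable def a₀ : FixPt :=
  ⟨⟨0, by norm_num⟩, (smul_iff xW xW_mem.2.2 _ _).2 xW_mem.1⟩

/-- The second point. -/
noncomputable def a₁ : FixPt :=
  ⟨⟨1, by norm_num⟩, (smul_iff xW xW_mem.2.2 _ _).2 xW_mem.2.1⟩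

theorem exists_to_base (i : FixPt) : ∃ c : CX, c • i = a₀ := by
  obtain ⟨hl, hall⟩ := orb_ok
  obtain ⟨k, hk, hki⟩ := List.getElem_of_mem (mem_fixPts i)
  have hmem : (fixPts[k], orbWords[k]'(hl ▸ hk)) ∈ fixPts.zip orbWords :=
    List.mem_iff_getElem.2 ⟨k, by simp [List.length_zip, hl ▸ hk, hk], by simp⟩
  have h := List.all_eq_true.1 hall _ hmem
  simp only [Bool.and_eq_true, Nat.beq_eq] at h
  obtain ⟨hc, h0⟩ := h
  refine ⟨⟨el (unpack (orbWords[k]'(hl ▸ hk))), commW_mem hc⟩, Subtype.ext ?_⟩
  have hok : okW (unpack (orbWords[k]'(hl ▸ hk))) = true := by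
    simp only [commW, Bool.and_eq_true] at hc
    exact hc.1
  rw [smul_fix_val]
  exact (smul_iff _ hok i.1 ⟨0, by norm_num⟩).2 (h0.trans hki)

instance : MulAction.IsPretransitive CX FixPt where
  exists_smul_eq i j := by
    obtain ⟨c, hc⟩ := exists_to_base i
    obtain ⟨d, hd⟩ := exists_to_base j
    exact ⟨d⁻¹ * c, by rw [mul_smul, hc, ← hd, inv_smul_smul]⟩

theorem el_subst_mem (K : Subgroup P) (gens : List (List ℕ)) (h : ∀ g ∈ gens, el g ∈ K) (c : ℕ) :
    el (subst gens c) ∈ K := by
  unfold subst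
  induction unpack c with
  | nil => simp [el_nil, K.one_mem]
  | cons g l ih =>
    rw [List.map_cons, List.flatten_cons, el_append]
    refine K.mul_mem ?_ ih
    rcases lt_or_ge g gens.length with hg | hg
    · rw [List.getD_eq_getElem _ _ hg]
      exact h _ (List.getElem_mem hg)
    · rw [List.getD_eq_default _ _ hg, el_nil]
      exact K.one_mem

theorem el_pow (u : List ℕ) (n : ℕ) : el (List.replicate n u).flatten = el u ^ n := by
  induction n with
  | zero => simp [el_nil]
  | succ n ih => rw [List.replicate_succ, List.flatten_cons, el_append, ih, pow_succ']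

theorem uGens_mem : ∀ g ∈ uGens, el g ∈ CX ∧ okW g = true ∧ im g 0 = 0 := by
  intro g hg
  have h := List.all_eq_true.1 uGens_ok.1 g hg
  simp only [Bool.and_eq_true, Nat.beq_eq] at h
  refine ⟨commW_mem h.1, ?_, h.2⟩
  have h1 := h.1
  simp only [commW, Bool.and_eq_true] at h1
  exact h1.1

theorem stabW_mem (c : ℕ) : el (stabW c) ∈ CX :=
  el_subst_mem _ _ (fun g hg => (uGens_mem g hg).1) c

theorem stabW_facts {w : List ℕ} (hw : w ∈ stabList) : okW w = true ∧ im w 0 = 0 := by
  have h := ((incr_spec stab_incr.1).1 w hw).1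
  simp only [Bool.and_eq_true, Nat.beq_eq] at h
  exact h

theorem stab_ge : 3000 ≤ Nat.card (stabilizer CX a₀) := by
  let q : List ℕ → Bool := fun w => okW w && Nat.beq (im w 0) 0 && decide (w ∈ stabList)
  have hq : ∀ (l : List (List ℕ)) (lo : ℕ), (∀ v ∈ l, v ∈ stabList) →
      incr (fun w => okW w && Nat.beq (im w 0) 0) lo l = true → incr q lo l = true := by
    intro l
    induction l with
    | nil => intros; rfl
    | cons a as ih =>
      intro lo hm hi
      simp only [incr, force_eq, Bool.and_eq_true] at hi ⊢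
      exact ⟨by simp only [q, Bool.and_eq_true, decide_eq_true_eq]; exact ⟨hi.1, hm a List.mem_cons_self⟩,
        hi.2.1, ih _ (fun v hv => hm v (List.mem_cons_of_mem _ hv)) hi.2.2⟩
  have h := card_ge_of_incr (hq _ _ (fun v hv => hv) stab_incr.1)
    (fun w hw => by simp only [q, Bool.and_eq_true] at hw; exact hw.1.1)
    (((stabilizer CX a₀).map CX.subtype : Subgroup P) : Set P) (fun w hw => by
      simp only [q, Bool.and_eq_true, Nat.beq_eq, decide_eq_true_eq] at hw
      obtain ⟨⟨hok, h0⟩, hm⟩ := hw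
      obtain ⟨c, -, rfl⟩ := List.mem_map.1 hm
      exact ⟨⟨el (stabW c), stabW_mem c⟩, Subtype.ext ((smul_iff _ hok _ _).2 h0), rfl⟩)
  rw [stab_incr.2] at h
  refine h.trans (le_of_eq ?_)
  exact Subgroup.card_map_of_injective CX.subtype_injective

theorem card_fixPt : Nat.card FixPt = 126 :=
  (card_fixed xW xW_mem.2.2).trans fixX

theorem card_facts : Nat.card CX = 378000 ∧ Nat.card (stabilizer CX a₀) = 3000 := by
  have h1 := (stabilizer CX a₀).index_mul_card
  rw [MulAction.index_stabilizer_of_transitive, card_fixPt] at h1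
  have h2 := stab_ge
  have h3 := card_centX_le
  change Nat.card CX ≤ 378000 at h3
  omega

theorem stab_cases {c : CX} (hc : c • a₀ = a₀) : ∃ n ∈ stabCodes, (c : P) = el (stabW n) := by
  classical
  let T : Finset P := (stabList.map el).toFinset
  have hcard : T.card = 3000 := by
    have hn : (stabList.map el).Nodup := by
      refine List.Nodup.map_on (fun u hu v hv he => ?_)
        (List.Nodup.of_map key (incr_spec stab_incr.1).2)
      exact List.inj_on_of_nodup_map (incr_spec stab_incr.1).2 hu hv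
        (key_eq_of_el (stabW_facts hu).1 (stabW_facts hv).1 he)
    rw [List.toFinset_card_of_nodup hn, List.length_map, stab_incr.2]
  have hsub : (T : Set P) ⊆ (stabilizer CX a₀).map CX.subtype := by
    intro x hx
    simp only [T, List.coe_toFinset, Set.mem_setOf_eq, List.mem_map] at hx
    obtain ⟨w, hw, rfl⟩ := hx
    obtain ⟨n, -, rfl⟩ := List.mem_map.1 hw
    exact ⟨⟨el (stabW n), stabW_mem n⟩,
      Subtype.ext ((smul_iff _ (stabW_facts hw).1 _ _).2 (stabW_facts hw).2), rfl⟩
  have heq := Set.eq_of_subset_of_ncard_le hsub (le_of_eq (by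
    rw [Set.ncard_coe_finset, hcard]
    change Set.ncard ((Subgroup.map CX.subtype (stabilizer CX a₀) : Subgroup P) : Set P) = 3000
    rw [← Nat.card_coe_set_eq]
    exact (Subgroup.card_map_of_injective CX.subtype_injective).trans card_facts.2))
  have hmem : (c : P) ∈ (T : Set P) := by
    rw [heq]
    exact ⟨c, hc, rfl⟩
  simp only [T, List.coe_toFinset, Set.mem_setOf_eq, List.mem_map] at hmem
  obtain ⟨w, hw, he⟩ := hmem
  obtain ⟨n, hn, rfl⟩ := List.mem_map.1 hw
  exact ⟨n, hn, he.symm⟩

/-- The action on the fixed points. -/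
noncomputable def rho : CX →* Equiv.Perm FixPt := MulAction.toPermHom CX FixPt

theorem xP_mem : xP ∈ CX := Subgroup.mem_centralizer_singleton_iff.2 rfl

/-- The element of order three, in its centraliser. -/
noncomputable abbrev xC : CX := ⟨xP, xP_mem⟩

theorem ker_rho : rho.ker = Subgroup.zpowers xC := by
  refine le_antisymm (fun c hc => ?_) ?_
  · have hfix : ∀ i : FixPt, c • i = i := fun i => Equiv.ext_iff.1 hc i
    obtain ⟨n, hn, he⟩ := stab_cases (hfix a₀)
    obtain ⟨k, hk, rfl⟩ := List.getElem_of_mem hn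
    have hlen : k < stabMoved.length := by
      rw [stab_ker.1]
      have := stab_incr.2
      simp only [stabList, List.length_map] at this
      omega
    have hmem : (stabCodes[k], stabMoved[k]) ∈ stabCodes.zip stabMoved :=
      List.mem_iff_getElem.2 ⟨k, by simp [List.length_zip, hk, hlen], List.getElem_zip⟩
    have h := List.all_eq_true.1 stab_ker.2 _ hmem
    simp only [kerTest, force_eq, Bool.or_eq_true, Bool.and_eq_true, Nat.beq_eq, Nat.blt_eq,
      Bool.not_eq_true'] at h
    have hok : okW (stabW stabCodes[k]) = true := (stabW_facts (List.mem_map_of_mem hn)).1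
    rcases h with h | ⟨hq, hx, hm⟩
    · rcases h with h | h | h
      · have h1 : el (stabW stabCodes[k]) = el [] := el_eq_of_key hok (by decide) h
        rw [el_nil] at h1
        have : c = 1 := Subtype.ext ((he.trans h1).trans CX.coe_one.symm)
        rw [this]
        exact Subgroup.one_mem _
      · have h1 : el (stabW stabCodes[k]) = el xW := el_eq_of_key hok xW_mem.2.2 h
        have : c = xC := Subtype.ext (he.trans h1)
        rw [this]
        exact Subgroup.mem_zpowers _
      · have h1 : el (stabW stabCodes[k]) = el (xW ++ xW) :=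
          el_eq_of_key hok (okW_append xW_mem.2.2 xW_mem.2.2) h
        rw [el_append] at h1
        have : c = xC * xC := Subtype.ext ((he.trans h1).trans (Subgroup.coe_mul CX xC xC).symm)
        rw [this]
        exact Subgroup.mul_mem _ (Subgroup.mem_zpowers _) (Subgroup.mem_zpowers _)
    · exfalso
      have hi : el xW • (⟨stabMoved[k], hq⟩ : Fin 3906) = ⟨stabMoved[k], hq⟩ :=
        (smul_iff xW xW_mem.2.2 _ _).2 hx
      let p : FixPt := ⟨_, hi⟩
      have := congrArg Subtype.val (hfix p)
      rw [smul_fix_val, he] at this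
      have := (smul_iff _ hok _ _).1 this
      exact Bool.false_ne_true (hm.symm.trans (Nat.beq_eq.mpr this))
  · rw [Subgroup.zpowers_le]
    exact Equiv.ext fun i => Subtype.ext i.2

/-- The image of `rho`. -/
noncomputable abbrev UX : Subgroup (Equiv.Perm FixPt) := rho.range

/-- The projection onto it. -/
noncomputable abbrev pr : CX →* UX := rho.rangeRestrict

theorem pr_smul (c : CX) (i : FixPt) : pr c • i = c • i := rfl

instance : MulAction.IsPretransitive UX FixPt where
  exists_smul_eq i j := by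
    obtain ⟨c, hc⟩ := exists_smul_eq CX i j
    exact ⟨pr c, hc⟩

theorem to_second {i : FixPt} (hi : i ≠ a₀) : ∃ c : CX, c • a₀ = a₀ ∧ c • i = a₁ := by
  obtain ⟨-, -, hcons, hall⟩ := trans_ok
  have hmem := mem_fixPts i
  rw [hcons] at hmem
  rcases List.mem_cons.1 hmem with h | h
  · exact absurd (Subtype.ext (Fin.ext h)) hi
  obtain ⟨k, hk, hki⟩ := List.getElem_of_mem h
  have hl : k < transCodes.length := by rw [trans_ok.2.1, ← trans_ok.1]; exact hk
  have hm : (transPts[k], transCodes[k]) ∈ transPts.zip transCodes :=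
    List.mem_iff_getElem.2 ⟨k, by simp [List.length_zip, hk, hl], List.getElem_zip⟩
  have h1 := List.all_eq_true.1 hall _ hm
  simp only [Bool.and_eq_true, Nat.beq_eq] at h1
  refine ⟨⟨el (stabW transCodes[k]), stabW_mem _⟩, ?_, Subtype.ext ?_⟩
  · have : el (stabW transCodes[k]) ∈ (stabilizer CX a₀).map CX.subtype :=
      el_subst_mem ((stabilizer CX a₀).map CX.subtype) uGens (fun g hg =>
        Subgroup.mem_map.2 ⟨⟨el g, (uGens_mem g hg).1⟩,
        Subtype.ext ((smul_iff _ (uGens_mem g hg).2.1 _ _).2 (uGens_mem g hg).2.2), rfl⟩) _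
    obtain ⟨c, hc, he⟩ := this
    have : c = (⟨el (stabW transCodes[k]), stabW_mem _⟩ : CX) := Subtype.ext he
    rw [← this]
    exact hc
  · rw [smul_fix_val]
    exact (smul_iff _ h1.1 i.1 ⟨1, by norm_num⟩).2 (h1.2.trans hki)

instance : IsPreprimitive UX FixPt := by
  refine MulAction.isPreprimitive_of_is_two_pretransitive ?_
  rw [MulAction.is_two_pretransitive_iff]
  have key : ∀ {a b : FixPt}, a ≠ b → ∃ c : CX, c • a = a₀ ∧ c • b = a₁ := by
    intro a b hab
    obtain ⟨c, hc⟩ := exists_to_base a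
    obtain ⟨d, hd0, hd1⟩ := to_second (i := c • b) fun h => hab (smul_left_cancel c (hc.trans h.symm))
    exact ⟨d * c, by rw [mul_smul, hc, hd0], by rw [mul_smul, hd1]⟩
  intro a b c d hab hcd
  obtain ⟨g, hg0, hg1⟩ := key hab
  obtain ⟨h, hh0, hh1⟩ := key hcd
  exact ⟨pr (h⁻¹ * g), by rw [pr_smul, mul_smul, hg0, ← hh0, inv_smul_smul],
    by rw [pr_smul, mul_smul, hg1, ← hh1, inv_smul_smul]⟩

/-- The element of order five. -/
noncomputable abbrev zC : CX := ⟨el zW, commW_mem uGens_ok.2.1⟩

/-- Its image. -/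
noncomputable abbrev zU : UX := pr zC

/-- The subgroup generated by it. -/
noncomputable abbrev ZU : Subgroup UX := Subgroup.zpowers zU

theorem norm_ZU {s : UX} (hs : s • a₀ = a₀) : MulAut.conj s • ZU = ZU := by
  obtain ⟨c, rfl⟩ := rho.rangeRestrict_surjective s
  obtain ⟨n, -, he⟩ := stab_cases (c := c) hs
  let N : Subgroup P := (((stabilizer (MulAut UX) ZU).comap MulAut.conj).comap pr).map CX.subtype
  have hN : el (stabW n) ∈ N := by
    refine el_subst_mem N _ (fun g hg => ?_) n
    obtain ⟨k, hk, hkg⟩ := List.getElem_of_mem hg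
    have hl : uGens.length = 3 ∧ zExp.length = 3 := by decide
    have hm : (uGens[k], zExp[k]'(by omega)) ∈ uGens.zip zExp :=
      List.mem_iff_getElem.2 ⟨k, by simp [List.length_zip]; omega, by simp⟩
    have h := List.all_eq_true.1 z_norm _ hm
    simp only [Nat.beq_eq, hkg] at h
    have hzok : okW zW = true := by
      have := uGens_ok.2.1
      simp only [commW, Bool.and_eq_true] at this
      exact this.1
    have hgok := (uGens_mem g hg).2.1
    have hpok : okW (List.replicate (zExp[k]'(by omega)) zW).flatten = true := by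
      simp only [okW_iff, List.mem_flatten, List.mem_replicate] at hzok ⊢
      rintro a ⟨l, ⟨-, rfl⟩, hal⟩
      exact hzok a hal
    have h' := el_eq_of_key (okW_append (okW_invWord hgok) (okW_append hzok hgok)) hpok h
    rw [el_append, el_append, el_invWord hgok, el_pow] at h'
    let gC : CX := ⟨el g, (uGens_mem g hg).1⟩
    have hC : gC⁻¹ * (zC * gC) = zC ^ (zExp[k]'(by omega)) := Subtype.ext h'
    refine ⟨gC, ?_, rfl⟩
    change MulAut.conj (pr gC) ∈ stabilizer (MulAut UX) ZU
    rw [← inv_mem_iff (x := MulAut.conj (pr gC)), ← map_inv, mem_stabilizer_iff]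
    refine Subgroup.eq_of_le_of_card_ge ?_ (le_of_eq ?_)
    · rintro _ ⟨y, hy, rfl⟩
      obtain ⟨j, rfl⟩ := Subgroup.mem_zpowers_iff.1 hy
      change (MulAut.conj (pr gC)⁻¹) (zU ^ j) ∈ ZU
      rw [map_zpow]
      refine Subgroup.zpow_mem _ ?_ j
      have : (MulAut.conj (pr gC)⁻¹) zU = zU ^ (zExp[k]'(by omega)) := by
        rw [← map_pow, ← hC, MulAut.conj_apply, inv_inv, map_mul, map_mul, map_inv, mul_assoc]
      rw [this]
      exact Subgroup.pow_mem _ (Subgroup.mem_zpowers _) _
    · exact Nat.card_congr (Subgroup.equivSMul (MulAut.conj (pr gC)⁻¹) ZU).toEquiv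
  obtain ⟨c', hc', hcc'⟩ := hN
  have : c' = c := Subtype.ext (hcc'.trans he.symm)
  rwa [this] at hc'

/-- The Iwasawa subgroups. -/
noncomputable def ZAt (i : FixPt) : Subgroup UX :=
  MulAut.conj (Classical.choose (exists_smul_eq UX a₀ i)) • ZU

theorem ZAt_eq {m : UX} {i : FixPt} (hm : m • a₀ = i) : ZAt i = MulAut.conj m • ZU := by
  have h := Classical.choose_spec (exists_smul_eq UX a₀ i)
  have hs := norm_ZU (s := m⁻¹ * Classical.choose (exists_smul_eq UX a₀ i))
    (by rw [mul_smul, h, ← hm, inv_smul_smul])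
  conv_rhs => rw [← hs, smul_smul, ← map_mul, mul_inv_cancel_left]
  rfl

theorem ZAt_conj (g : UX) (i : FixPt) : ZAt (g • i) = MulAut.conj g • ZAt i := by
  obtain ⟨m, hm⟩ := exists_smul_eq UX a₀ i
  rw [ZAt_eq hm, ZAt_eq (m := g * m) (by rw [mul_smul, hm]), smul_smul, ← map_mul]

theorem ZAt_mem {m : UX} {i : FixPt} (hm : m • a₀ = i) (j : ℕ) : m * zU ^ j * m⁻¹ ∈ ZAt i := by
  rw [ZAt_eq hm]
  exact ⟨zU ^ j, Subgroup.pow_mem _ (Subgroup.mem_zpowers _) _, rfl⟩

theorem zU_ne : zU ≠ 1 := by
  intro h
  obtain ⟨-, -, -, -, -, hm, hx⟩ := z_comm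
  have hq : zMoved < 3906 := by decide
  have hi : el xW • (⟨zMoved, hq⟩ : Fin 3906) = ⟨zMoved, hq⟩ := (smul_iff xW xW_mem.2.2 _ _).2 hx
  let p : FixPt := ⟨_, hi⟩
  have h1 : zU • p = p := by rw [h, one_smul]
  rw [pr_smul] at h1
  have := congrArg Subtype.val h1
  rw [smul_fix_val] at this
  have hzok : okW zW = true := by
    have := uGens_ok.2.1
    simp only [commW, Bool.and_eq_true] at this
    exact this.1
  exact hm ((smul_iff _ hzok _ _).1 this)

theorem iSup_ZAt : iSup ZAt = ⊤ := by
  set S := iSup ZAt with hS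
  have hnorm : S.Normal := by
    refine ⟨fun n hn g => ?_⟩
    have hmem : MulAut.conj g n ∈ MulAut.conj g • S := ⟨n, hn, rfl⟩
    have hle : MulAut.conj g • S ≤ S := by
      rw [Subgroup.pointwise_smul_subset_iff, hS]
      refine iSup_le fun i => ?_
      rw [← Subgroup.pointwise_smul_subset_iff]
      exact (ZAt_conj g i).ge.trans (le_iSup ZAt (g • i))
    simpa using hle hmem
  -- the stabiliser lies in `S`
  let N : Subgroup P := (S.comap pr).map CX.subtype
  have hx : el xW ∈ N := ⟨xC, by
    change pr xC ∈ S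
    have : pr xC = 1 := by
      have : xC ∈ rho.ker := by rw [ker_rho]; exact Subgroup.mem_zpowers _
      exact Subtype.ext this
    rw [this]
    exact S.one_mem, rfl⟩
  have hz : ∀ (j : ℕ) (w : List ℕ), commW w = true →
      el (invWord w ++ ((List.replicate j zW).flatten ++ w)) ∈ N := by
    intro j w hw
    have hok : okW w = true := by
      simp only [commW, Bool.and_eq_true] at hw
      exact hw.1
    let c : CX := ⟨el w, commW_mem hw⟩
    refine ⟨c⁻¹ * (zC ^ j * c), ?_, ?_⟩
    · change pr _ ∈ S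
      rw [map_mul, map_mul, map_inv, map_pow]
      refine le_iSup ZAt ((pr c)⁻¹ • a₀) ?_
      have := ZAt_mem (m := (pr c)⁻¹) rfl j
      rwa [inv_inv, mul_assoc] at this
    · rw [el_append, el_append, el_invWord hok, el_pow]
      rfl
  have hgen : ∀ g ∈ uGens, el g ∈ N := by
    have hflat : ∀ (l : List (List ℕ)), (∀ u ∈ l, el u ∈ N) → el l.flatten ∈ N := by
      intro l hl
      induction l with
      | nil => simp [el_nil, N.one_mem]
      | cons u l ih =>
        rw [List.flatten_cons, el_append]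
        exact N.mul_mem (hl u List.mem_cons_self) (ih fun v hv => hl v (List.mem_cons_of_mem _ hv))
    intro g hg
    obtain ⟨k, hk, hkg⟩ := List.getElem_of_mem hg
    have hl : uGens.length = 3 ∧ zProd.length = 2 ∧ uGens.getD 2 [] = xW := by decide
    rcases lt_or_ge k 2 with hk2 | hk2
    · have hm : (uGens[k], zProd[k]'(by omega)) ∈ uGens.zip zProd :=
        List.mem_iff_getElem.2 ⟨k, by simp [List.length_zip]; omega, by simp⟩
      have h := List.all_eq_true.1 z_prod _ hm
      simp only [Bool.and_eq_true, Nat.beq_eq, List.all_eq_true, hkg] at h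
      have he := el_eq_of_key h.1 (uGens_mem g hg).2.1 h.2.2
      rw [← he, prodW, el_append]
      refine N.mul_mem (hflat _ fun u hu => ?_) ?_
      · obtain ⟨q, hq, rfl⟩ := List.mem_map.1 hu
        exact hz _ _ (h.2.1 q hq)
      · rw [el_pow]
        exact N.pow_mem hx _
    · have h3 : k = 2 := by omega
      subst h3
      rw [List.getD_eq_getElem _ _ hk] at hl
      rw [← hkg, hl.2.2]
      exact hx
  have hstab : ∀ m : UX, m • a₀ = a₀ → m ∈ S := by
    intro m hm
    obtain ⟨c, rfl⟩ := rho.rangeRestrict_surjective m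
    obtain ⟨n, -, he⟩ := stab_cases (c := c) hm
    obtain ⟨c', hc', hcc'⟩ := el_subst_mem N _ hgen n
    have : c' = c := Subtype.ext (hcc'.trans he.symm)
    rwa [this] at hc'
  -- and `S` is transitive
  have htrans : MulAction.IsPretransitive S FixPt := by
    refine IsQuasiPreprimitive.isPretransitive_of_normal fun h => zU_ne ?_
    have hzS : zU ∈ S := le_iSup ZAt a₀ (by simpa using ZAt_mem (m := 1) (one_smul _ a₀) 1)
    refine eq_of_smul_eq_smul fun i : FixPt => ?_
    rw [one_smul]
    exact Set.eq_univ_iff_forall.1 h i ⟨zU, hzS⟩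
  refine (Subgroup.eq_top_iff' S).2 fun g => ?_
  obtain ⟨n, hn⟩ := exists_smul_eq S a₀ (g • a₀)
  have : (n : UX)⁻¹ * g ∈ S := hstab _ (by
    rw [mul_smul, inv_smul_eq_iff]
    exact hn.symm)
  simpa using S.mul_mem n.2 this

/-- The Iwasawa structure. -/
noncomputable def iwasawaU : IwasawaStructure UX FixPt where
  T := ZAt
  is_comm i := by
    obtain ⟨m, hm⟩ := exists_smul_eq UX a₀ i
    rw [ZAt_eq hm]
    refine ⟨⟨?_⟩⟩
    rintro ⟨_, u, hu, rfl⟩ ⟨_, v, hv, rfl⟩
    obtain ⟨j, rfl⟩ := Subgroup.mem_zpowers_iff.1 hu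
    obtain ⟨l, rfl⟩ := Subgroup.mem_zpowers_iff.1 hv
    exact Subtype.ext (by
      change MulAut.conj m (zU ^ j) * MulAut.conj m (zU ^ l) = MulAut.conj m (zU ^ l) * MulAut.conj m (zU ^ j)
      rw [← map_mul, ← map_mul, zpow_mul_comm])
  is_conj := ZAt_conj
  is_generator := iSup_ZAt

theorem perfect_UX : commutator UX = ⊤ := by
  rw [eq_top_iff, ← iSup_ZAt]
  refine iSup_le fun i => ?_
  obtain ⟨m, hm⟩ := exists_smul_eq UX a₀ i
  rw [ZAt_eq hm]
  rintro _ ⟨y, hy, rfl⟩
  refine (commutator_def UX ▸ inferInstance : (commutator UX).Normal).conj_mem _ ?_ m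
  obtain ⟨j, rfl⟩ := Subgroup.mem_zpowers_iff.1 hy
  refine Subgroup.zpow_mem _ ?_ j
  obtain ⟨hA, hB, hAc, hBc, hk, -, -⟩ := z_comm
  have hzok : okW zW = true := by
    have := uGens_ok.2.1
    simp only [commW, Bool.and_eq_true] at this
    exact this.1
  have he := el_eq_of_key
    (okW_append hA (okW_append hB (okW_append (okW_invWord hA) (okW_invWord hB)))) hzok hk
  rw [el_append, el_append, el_append, el_invWord hA, el_invWord hB] at he
  have hz : zC = ⁅(⟨el zA, commW_mem hAc⟩ : CX), ⟨el zB, commW_mem hBc⟩⁆ := by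
    refine Subtype.ext ?_
    rw [commutatorElement_def]
    change el zW = el zA * el zB * (el zA)⁻¹ * (el zB)⁻¹
    rw [← he, mul_assoc, mul_assoc]
  rw [zU, hz, map_commutatorElement, commutator_def]
  exact Subgroup.commutator_mem_commutator (Subgroup.mem_top _) (Subgroup.mem_top _)

/-- The image is simple. -/
theorem isSimpleGroup_UX : IsSimpleGroup UX := by
  have : Nontrivial UX := ⟨⟨zU, 1, zU_ne⟩⟩
  exact iwasawaU.isSimpleGroup perfect_UX inferInstance

/-- The centraliser modulo the element of order three is simple. -/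
theorem isSimpleGroup_quotient : ∀ [(Subgroup.zpowers xC).Normal], IsSimpleGroup (CX ⧸ Subgroup.zpowers xC) := by
  intro _
  have := isSimpleGroup_UX
  exact ((QuotientGroup.quotientMulEquivOfEq ker_rho).symm.trans
    (QuotientGroup.quotientKerEquivRange rho)).isSimpleGroup

end Cfsg.Agent.Lib.LyLocal84
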